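import Groth.Agent.Lib.PBasis.Field
import Mathlib.RingTheory.Derivation.Lie
import Mathlib.Algebra.MvPolynomial.PDeriv
import Mathlib.Algebra.DualNumber
import Mathlib.Algebra.CharP.Two
import Mathlib.Tactic.FieldSimp
import Mathlib.Tactic.LinearCombination

/-!
# Quadrics in the square of an ideal of the plane
-/

set_option autoImplicit false
universe u

open MvPolynomial EGA41

namespace GrothLib.QuadSq

variable {κ : Type u} [Field κ]

/-- The coordinate ring of the plane. -/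
abbrev Pl (κ : Type u) [Field κ] : Type u := MvPolynomial (Fin 2) κ

/-- A derivation detecting a non-square. -/
theorem exists_derivation_eq_one [CharP κ 2] (a : κ) (ha : ∀ b : κ, b ^ 2 ≠ a) :
    ∃ D : Derivation ℤ κ κ, D a = 1 := by
  haveI : Fact (Nat.Prime 2) := ⟨Nat.prime_two⟩
  let F : Subfield κ := ⊥
  have hnot : a ∉ PBasis.genField 2 F (∅ : Set κ) := by
    intro h
    obtain ⟨b, hb⟩ : a ∈ (frobenius κ 2).fieldRange := by
      clear ha
      induction h using IntermediateField.adjoin_induction with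
      | mem y hy =>
        rcases hy with ⟨z, rfl⟩ | hy
        · exact ⟨z, rfl⟩
        · exact hy.elim
      | algebraMap r => exact (bot_le : F ≤ (frobenius κ 2).fieldRange) r.2
      | add _ _ _ _ h1 h2 => exact add_mem h1 h2
      | inv _ _ h1 => exact inv_mem h1
      | mul _ _ _ _ h1 h2 => exact mul_mem h1 h2
    exact ha b hb
  have hind : IsPIndependent 2 F (fun _ : PUnit.{u+1} => a) := by
    rw [PBasis.isPIndependent_iff]
    intro x
    rwa [show (fun _ : PUnit.{u+1} => a) '' {b | b ≠ x} = ∅ by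
      rw [Set.image_eq_empty]; ext b; simp]
  obtain ⟨B, hB1, hB⟩ := PBasis.exists_pBasis_superset hind
  obtain ⟨b, hb⟩ := PBasis.exists_basis_kaehler (CharP.cast_eq_zero κ 2) _ hB
  let i0 : B := ⟨a, hB1 ⟨PUnit.unit, rfl⟩⟩
  let δ : Derivation F κ κ := (b.coord i0).compDer (KaehlerDifferential.D F κ)
  refine ⟨δ.restrictScalars ℤ, ?_⟩
  show b.coord i0 (KaehlerDifferential.D F κ (Subtype.val i0)) = 1
  rw [← hb i0, Module.Basis.coord_apply, b.repr_self, Finsupp.single_eq_same]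

/-- Derivatives of elements of `I ^ 2` lie in `I`. -/
theorem derivation_mem {R : Type*} [CommSemiring R] [Algebra R (Pl κ)] (I : Ideal (Pl κ)) (D : Derivation R (Pl κ) (Pl κ))
    {q : (Pl κ)} (hq : q ∈ I ^ 2) : D q ∈ I := by
  rw [pow_two] at hq
  induction hq using Submodule.mul_induction_on' with
  | mem_mul_mem g hg h hh =>
    rw [Derivation.leibniz]
    exact add_mem (I.mul_mem_right _ hg) (I.mul_mem_right _ hh)
  | add _ _ _ _ h1 h2 => rw [map_add]; exact add_mem h1 h2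

/-- Applying a derivation of the coefficients to `C a + C d X₀² + C f X₁² ∈ I²`. -/
theorem coeffDer_mem (I : Ideal (Pl κ)) (D : Derivation ℤ κ κ) (a d f : κ)
    (hq : C a + C d * X 0 ^ 2 + C f * X 1 ^ 2 ∈ I ^ 2) :
    C (D a) + C (D d) * X 0 ^ 2 + C (D f) * X 1 ^ 2 ∈ I := by
  let ι : κ →+* DualNumber (Pl κ) :=
    { toFun := fun c => TrivSqZeroExt.inl (C c) + TrivSqZeroExt.inr (C (D c))
      map_one' := by simp
      map_mul' := fun x y => by
        ext : 1
        · simp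
        · simp [D.leibniz, add_comm, mul_comm]
      map_zero' := by simp
      map_add' := fun x y => by
        ext : 1 <;> simp }
  let φ : (Pl κ) →+* DualNumber (Pl κ) := eval₂Hom ι (fun i => TrivSqZeroExt.inl (X i))
  have hfst : ∀ g : (Pl κ), (φ g).fst = g := fun g => by
    have : (TrivSqZeroExt.fstHom (Pl κ) (Pl κ) (Pl κ)).toRingHom.comp φ = RingHom.id (Pl κ) :=
      MvPolynomial.ringHom_ext (fun c => by simp [φ, ι]) (fun i => by simp [φ])
    exact congr($this g)
  have key : ∀ g ∈ I ^ 2, (φ g).snd ∈ I := by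
    intro g hg
    rw [pow_two] at hg
    induction hg using Submodule.mul_induction_on' with
    | mem_mul_mem g hg h hh =>
      rw [map_mul, TrivSqZeroExt.snd_mul, hfst, hfst]
      simp only [smul_eq_mul, op_smul_eq_smul]
      first
        | exact add_mem (I.mul_mem_right _ hg) (I.mul_mem_left _ hh)
        | exact add_mem (I.mul_mem_right _ hg) (I.mul_mem_right _ hh)
    | add _ _ _ _ h1 h2 => rw [map_add, TrivSqZeroExt.snd_add]; exact add_mem h1 h2
  have := key _ hq
  convert this using 1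
  simp [φ, ι, pow_two, mul_comm]

variable (I : Ideal (Pl κ))
  (hI : ¬ (Module.Finite κ ((Pl κ) ⧸ I) ∧ Module.finrank κ ((Pl κ) ⧸ I) ≤ 1))

include hI

theorem C_mem_iff {t : κ} : C t ∈ I ↔ t = 0 := by
  refine ⟨fun h => by_contra fun ht => hI ?_, fun h => by simp [h]⟩
  have : I = ⊤ := I.eq_top_of_isUnit_mem h ((isUnit_iff_ne_zero.2 ht).map C)
  subst this
  haveI : Subsingleton ((Pl κ) ⧸ (⊤ : Ideal (Pl κ))) := Ideal.Quotient.subsingleton_iff.2 rfl
  exact ⟨inferInstance, by rw [Module.finrank_zero_of_subsingleton]; omega⟩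

theorem not_both (u v : κ) (h0 : C u + X 0 ∈ I) (h1 : C v + X 1 ∈ I) : False := by
  refine hI ?_
  have hsurj : Function.Surjective (Algebra.linearMap κ ((Pl κ) ⧸ I)) := by
    intro x
    obtain ⟨g, rfl⟩ := Ideal.Quotient.mk_surjective x
    show ∃ t, algebraMap κ ((Pl κ) ⧸ I) t = _
    induction g using MvPolynomial.induction_on with
    | C t => exact ⟨t, rfl⟩
    | add g g' h h' =>
      obtain ⟨t, ht⟩ := h
      obtain ⟨t', ht'⟩ := h'
      exact ⟨t + t', by rw [map_add, map_add, ht, ht']⟩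
    | mul_X g i h =>
      obtain ⟨t, ht⟩ := h
      fin_cases i
      · refine ⟨t * -u, ?_⟩
        rw [map_mul, map_mul, ht]
        congr 1
        rw [IsScalarTower.algebraMap_apply κ (Pl κ) ((Pl κ) ⧸ I), Ideal.Quotient.algebraMap_eq, Ideal.Quotient.eq]
        have := neg_mem h0
        simpa [sub_eq_add_neg, add_comm, neg_add] using this
      · refine ⟨t * -v, ?_⟩
        rw [map_mul, map_mul, ht]
        congr 1
        rw [IsScalarTower.algebraMap_apply κ (Pl κ) ((Pl κ) ⧸ I), Ideal.Quotient.algebraMap_eq, Ideal.Quotient.eq]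
        have := neg_mem h1
        simpa [sub_eq_add_neg, add_comm, neg_add] using this
  exact ⟨Module.Finite.of_surjective _ hsurj,
    (LinearMap.finrank_le_finrank_of_surjective hsurj).trans (Module.finrank_self κ).le⟩

theorem minors {g₁ h₁ i₁ g₂ h₂ i₂ : κ} (m₁ : C g₁ + C h₁ * X 0 + C i₁ * X 1 ∈ I)
    (m₂ : C g₂ + C h₂ * X 0 + C i₂ * X 1 ∈ I) :
    g₁ * h₂ = g₂ * h₁ ∧ g₁ * i₂ = g₂ * i₁ ∧ h₁ * i₂ = h₂ * i₁ := by
  have e1 : C (i₂ * g₁ - i₁ * g₂) + C (h₁ * i₂ - h₂ * i₁) * X 0 ∈ I := by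
    have := sub_mem (I.mul_mem_left (C i₂) m₁) (I.mul_mem_left (C i₁) m₂)
    convert this using 1
    simp only [map_sub, map_mul]; ring
  have e2 : C (h₁ * g₂ - h₂ * g₁) + C (h₁ * i₂ - h₂ * i₁) * X 1 ∈ I := by
    have := sub_mem (I.mul_mem_left (C h₁) m₂) (I.mul_mem_left (C h₂) m₁)
    convert this using 1
    simp only [map_sub, map_mul]; ring
  have hΔ : h₁ * i₂ - h₂ * i₁ = 0 := by
    by_contra hne
    set Δ := h₁ * i₂ - h₂ * i₁
    refine not_both I hI ((i₂ * g₁ - i₁ * g₂) / Δ) ((h₁ * g₂ - h₂ * g₁) / Δ) ?_ ?_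
    · have := I.mul_mem_left (C Δ⁻¹) e1
      rwa [mul_add, ← mul_assoc, ← map_mul, ← map_mul, inv_mul_cancel₀ hne, map_one, one_mul,
        ← div_eq_inv_mul] at this
    · have := I.mul_mem_left (C Δ⁻¹) e2
      rwa [mul_add, ← mul_assoc, ← map_mul, ← map_mul, inv_mul_cancel₀ hne, map_one, one_mul,
        ← div_eq_inv_mul] at this
  rw [hΔ, map_zero, zero_mul, add_zero, C_mem_iff I hI] at e1 e2
  exact ⟨by linear_combination -e2, by linear_combination e1, sub_eq_zero.1 hΔ⟩

/-- The characteristic-two core at a rational point. -/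
theorem isSquare_of_point [CharP κ 2] (d u v : κ)
    (hl : (X 0 + C u) ^ 2 ∈ I) (hm : (X 1 + C v) ^ 2 ∈ I)
    (hq : C d * (X 0 + C u) ^ 2 + (X 1 + C v) ^ 2 ∈ I ^ 2) : ∃ w : κ, w ^ 2 = d := by
  classical
  let σ : (Pl κ) →ₐ[κ] (Pl κ) := aeval ![X 0 + C u, X 1 + C v]
  have hσσ : ∀ g, σ (σ g) = g := fun g => by
    have : σ.comp σ = AlgHom.id κ (Pl κ) := by
      refine MvPolynomial.algHom_ext fun i => ?_
      fin_cases i <;> simp [σ, add_assoc, CharTwo.add_self_eq_zero]
    exact congr($this g)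
  set J : Ideal (Pl κ) := I.map σ with hJ
  have hback : ∀ g ∈ J, σ g ∈ I := by
    intro g hg
    have hle : J ≤ I.comap σ := Ideal.map_le_iff_le_comap.2 fun x hx => by
      simp only [Ideal.mem_comap]; rwa [hσσ]
    exact hle hg
  have hx2 : (X 0 : (Pl κ)) ^ 2 ∈ J := by
    have := Ideal.mem_map_of_mem σ hl
    simpa [σ, map_pow, add_assoc, CharTwo.add_self_eq_zero] using this
  have hy2 : (X 1 : (Pl κ)) ^ 2 ∈ J := by
    have := Ideal.mem_map_of_mem σ hm
    simpa [σ, map_pow, add_assoc, CharTwo.add_self_eq_zero] using this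
  have hq' : C d * X 0 ^ 2 + X 1 ^ 2 ∈ J ^ 2 := by
    have := Ideal.mem_map_of_mem σ hq
    rw [Ideal.map_pow] at this
    simpa [σ, map_pow, add_assoc, CharTwo.add_self_eq_zero] using this
  -- second order expansion
  set M : Ideal (Pl κ) := Ideal.span {X 0 ^ 2, X 0 * X 1, X 1 ^ 2}
  have hexp : ∀ g : (Pl κ), ∃ c : κ × κ × κ, g - (C c.1 + C c.2.1 * X 0 + C c.2.2 * X 1) ∈ M := by
    intro g
    induction g using MvPolynomial.induction_on with
    | C t => exact ⟨(t, 0, 0), by simp⟩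
    | add g g' h h' =>
      obtain ⟨c, hc⟩ := h
      obtain ⟨c', hc'⟩ := h'
      refine ⟨c + c', ?_⟩
      convert add_mem hc hc' using 1
      simp only [Prod.fst_add, Prod.snd_add, map_add]; ring
    | mul_X g i h =>
      obtain ⟨c, hc⟩ := h
      fin_cases i
      · refine ⟨(0, c.1, 0), ?_⟩
        convert add_mem (M.mul_mem_right (X 0) hc)
          (add_mem (M.mul_mem_left (C c.2.1) (Ideal.subset_span (by simp) : (X 0 ^ 2 : (Pl κ)) ∈ M))
            (M.mul_mem_left (C c.2.2) (Ideal.subset_span (by simp) : (X 0 * X 1 : (Pl κ)) ∈ M))) using 1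
        simp; ring
      · refine ⟨(0, 0, c.1), ?_⟩
        convert add_mem (M.mul_mem_right (X 1) hc)
          (add_mem (M.mul_mem_left (C c.2.1) (Ideal.subset_span (by simp) : (X 0 * X 1 : (Pl κ)) ∈ M))
            (M.mul_mem_left (C c.2.2) (Ideal.subset_span (by simp) : (X 1 ^ 2 : (Pl κ)) ∈ M))) using 1
        simp; ring
  have h2 : ∀ g ∈ M, ∃ p q r : (Pl κ), g = p * X 0 ^ 2 + q * (X 0 * X 1) + r * X 1 ^ 2 := by
    intro g hg
    obtain ⟨p, z, hz, rfl⟩ := Ideal.mem_span_insert.1 hg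
    obtain ⟨q, r, rfl⟩ := Ideal.mem_span_pair.1 hz
    exact ⟨p, q, r, (add_assoc _ _ _).symm⟩
  have h20 : (2 : (Pl κ)) = 0 := by
    rw [← map_ofNat (C : κ →+* (Pl κ)) 2, (show (2 : κ) = 0 from CharTwo.two_eq_zero), map_zero]
  have hc0 : ∀ g ∈ J, ∀ c : κ × κ × κ, g - (C c.1 + C c.2.1 * X 0 + C c.2.2 * X 1) ∈ M → c.1 = 0 := by
    intro g hg c hc
    obtain ⟨p, q, r, e⟩ := h2 _ hc
    have : C (c.1 ^ 2) ∈ J := by
      have := sub_mem (sub_mem (J.pow_mem_of_mem hg 2 two_pos)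
        (J.mul_mem_left ((C c.2.1 + p * X 0 + q * X 1) ^ 2) hx2))
        (J.mul_mem_left ((C c.2.2 + r * X 1) ^ 2) hy2)
      convert this using 1
      rw [sub_eq_iff_eq_add.1 e, map_pow]
      linear_combination -(C c.1 * (C c.2.1 + p * X 0 + q * X 1) * X 0 + C c.1 * (C c.2.2 + r * X 1) * X 1 +
        (C c.2.1 + p * X 0 + q * X 1) * (C c.2.2 + r * X 1) * X 0 * X 1) * h20
    have := hback _ this
    exact (pow_eq_zero_iff two_ne_zero).1 ((C_mem_iff I hI).1 (by simpa [σ] using this))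
  have hpar : ∀ g ∈ J, ∀ g' ∈ J, ∀ c c' : κ × κ × κ,
      g - (C c.1 + C c.2.1 * X 0 + C c.2.2 * X 1) ∈ M →
      g' - (C c'.1 + C c'.2.1 * X 0 + C c'.2.2 * X 1) ∈ M → c.2.1 * c'.2.2 = c'.2.1 * c.2.2 := by
    intro g hg g' hg' c c' hc hc'
    by_contra hne
    set Δ := c.2.1 * c'.2.2 - c'.2.1 * c.2.2
    have hΔ : Δ ≠ 0 := sub_ne_zero.2 hne
    -- `X₀` and `X₁` modulo `M`
    have ex : ∀ w ∈ M, X 0 + w ∈ J → ∀ w' ∈ M, X 1 + w' ∈ J → False := by
      intro w hw hJw w' hw' hJw'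
      have hxy : (X 0 * X 1 : (Pl κ)) ∈ J := by
        obtain ⟨p, q, r, rfl⟩ := h2 w hw
        have := sub_mem (J.mul_mem_left (X 1) hJw)
          (add_mem (J.mul_mem_left (p * X 1) hx2) (J.mul_mem_left (q * X 0 + r * X 1) hy2))
        convert this using 1
        ring
      have hM : M ≤ J := Ideal.span_le.2 (by
        rintro z (rfl | rfl | rfl) <;> assumption)
      refine not_both I hI u v ?_ ?_
      · have := hback _ ((Ideal.add_mem_iff_left _ (hM hw)).1 hJw)
        simpa [σ, add_comm] using this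
      · have := hback _ ((Ideal.add_mem_iff_left _ (hM hw')).1 hJw')
        simpa [σ, add_comm] using this
    have z := hc0 g hg c hc
    have z' := hc0 g' hg' c' hc'
    set r := g - (C c.1 + C c.2.1 * X 0 + C c.2.2 * X 1) with hr
    set r' := g' - (C c'.1 + C c'.2.1 * X 0 + C c'.2.2 * X 1) with hr'
    have eg : g = C c.2.1 * X 0 + C c.2.2 * X 1 + r := by rw [hr, z, map_zero]; ring
    have eg' : g' = C c'.2.1 * X 0 + C c'.2.2 * X 1 + r' := by rw [hr', z', map_zero]; ring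
    have hinv : C Δ⁻¹ * (C c.2.1 * C c'.2.2 - C c'.2.1 * C c.2.2) = (1 : (Pl κ)) := by
      rw [← map_mul, ← map_mul, ← map_sub, ← map_mul, inv_mul_cancel₀ hΔ, map_one]
    refine ex (C Δ⁻¹ * (C c'.2.2 * r - C c.2.2 * r')) (M.mul_mem_left _ (sub_mem
      (M.mul_mem_left _ hc) (M.mul_mem_left _ hc'))) ?_
      (C Δ⁻¹ * (C c.2.1 * r' - C c'.2.1 * r)) (M.mul_mem_left _ (sub_mem
      (M.mul_mem_left _ hc') (M.mul_mem_left _ hc))) ?_
    · have := J.mul_mem_left (C Δ⁻¹) (sub_mem (J.mul_mem_left (C c'.2.2) hg) (J.mul_mem_left (C c.2.2) hg'))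
      convert this using 1
      rw [eg, eg']
      linear_combination -(X 0) * hinv
    · have := J.mul_mem_left (C Δ⁻¹) (sub_mem (J.mul_mem_left (C c.2.1) hg') (J.mul_mem_left (C c'.2.1) hg))
      convert this using 1
      rw [eg, eg']
      linear_combination -(X 1) * hinv
  -- the common tangent direction
  obtain ⟨h, i, hne, hdir⟩ : ∃ h i : κ, (h ≠ 0 ∨ i ≠ 0) ∧ ∀ g ∈ J, ∀ c : κ × κ × κ,
      g - (C c.1 + C c.2.1 * X 0 + C c.2.2 * X 1) ∈ M → c.2.1 * i = c.2.2 * h := by
    by_cases hex : ∃ g ∈ J, ∃ c : κ × κ × κ,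
        g - (C c.1 + C c.2.1 * X 0 + C c.2.2 * X 1) ∈ M ∧ (c.2.1 ≠ 0 ∨ c.2.2 ≠ 0)
    · obtain ⟨g0, hg0, c0, hc0', hne⟩ := hex
      exact ⟨c0.2.1, c0.2.2, hne, fun g hg c hc => (hpar g hg g0 hg0 c c0 hc hc0').trans (mul_comm _ _)⟩
    · push Not at hex
      refine ⟨0, 1, Or.inr one_ne_zero, fun g hg c hc => ?_⟩
      rw [(hex g hg c hc).1, zero_mul, mul_zero]
  let ψ : (Pl κ) →ₐ[κ] Polynomial κ := aeval ![Polynomial.C i * Polynomial.X, Polynomial.C h * Polynomial.X]
  have hψ : J ≤ (Ideal.span {Polynomial.X ^ 2}).comap ψ := by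
    intro g hg
    obtain ⟨c, hc⟩ := hexp g
    obtain ⟨p, q, r, e⟩ := h2 _ hc
    rw [Ideal.mem_comap, Ideal.mem_span_singleton, sub_eq_iff_eq_add.1 e, hc0 g hg c hc]
    have hh : c.2.1 * i + c.2.2 * h = 0 := by rw [hdir g hg c hc, CharTwo.add_self_eq_zero]
    refine ⟨ψ p * Polynomial.C (i * i) + ψ q * Polynomial.C (i * h) + ψ r * Polynomial.C (h * h), ?_⟩
    have hC : Polynomial.C c.2.1 * Polynomial.C i + Polynomial.C c.2.2 * Polynomial.C h = 0 := by
      rw [← map_mul, ← map_mul, ← map_add, hh, map_zero]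
    simp [ψ]
    linear_combination Polynomial.X * hC
  have hmem : ψ (C d * X 0 ^ 2 + X 1 ^ 2) ∈ Ideal.span {Polynomial.X ^ 4} := by
    have h1 : J ^ 2 ≤ ((Ideal.span {(Polynomial.X : Polynomial κ) ^ 2}) ^ 2).comap ψ :=
      le_trans (Ideal.pow_right_mono hψ 2) (Ideal.le_comap_pow ψ 2)
    have := h1 hq'
    rwa [Ideal.mem_comap, Ideal.span_singleton_pow, ← pow_mul] at this
  rw [Ideal.mem_span_singleton, Polynomial.X_pow_dvd_iff] at hmem
  have hcoef : d * i ^ 2 + h ^ 2 = 0 := by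
    have e : ψ (C d * X 0 ^ 2 + X 1 ^ 2) = Polynomial.C (d * i ^ 2 + h ^ 2) * Polynomial.X ^ 2 := by
      simp [ψ]; ring
    have := hmem 2 (by norm_num)
    rwa [e, Polynomial.coeff_C_mul_X_pow, if_pos rfl] at this
  have hi : i ≠ 0 := by
    rintro rfl
    rw [zero_pow two_ne_zero, mul_zero, zero_add] at hcoef
    exact hne.elim (fun hh => hh ((pow_eq_zero_iff two_ne_zero).1 hcoef)) (fun hh => hh rfl)
  refine ⟨h / i, ?_⟩
  rw [div_pow, div_eq_iff (pow_ne_zero _ hi)]
  exact (CharTwo.add_eq_zero.1 hcoef).symm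

/-- The characteristic-two core. -/
theorem isSquare_of_mem [CharP κ 2] (a d : κ) (hq : C a + C d * X 0 ^ 2 + X 1 ^ 2 ∈ I ^ 2) :
    (∃ w : κ, w ^ 2 = a) ∧ (∃ w : κ, w ^ 2 = d) := by
  have hder : ∀ D : Derivation ℤ κ κ, C (D a) + C (D d) * X 0 ^ 2 ∈ I := fun D => by
    have := coeffDer_mem I D a d 1 (by simpa using hq)
    simpa using this
  by_cases hd : ∀ w : κ, w ^ 2 ≠ d
  · exfalso
    obtain ⟨D0, hD0⟩ := exists_derivation_eq_one d hd
    set α := D0 a with hα
    have hl : C α + X 0 ^ 2 ∈ I := by simpa [hD0] using hder D0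
    have hall : ∀ D : Derivation ℤ κ κ, D a = α * D d := fun D => by
      have : C (D a - α * D d) ∈ I := by
        convert sub_mem (hder D) (I.mul_mem_left (C (D d)) hl) using 1
        simp only [map_sub, map_mul]; ring
      exact sub_eq_zero.1 ((C_mem_iff I hI).1 this)
    set β := a + d * α with hβdef
    have hβ : ∀ D : Derivation ℤ κ κ, D β = d * D α := fun D => by
      rw [hβdef, map_add, D.leibniz, hall, smul_eq_mul, smul_eq_mul]
      linear_combination (α * D d) * (CharTwo.two_eq_zero (R := κ))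
    have hαsq : ∃ u : κ, u ^ 2 = α := by
      by_contra hne
      push Not at hne
      obtain ⟨D1, hD1⟩ := exists_derivation_eq_one α hne
      let E : Derivation ℤ κ κ := Derivation.mk' (D1.toLinearMap ∘ₗ D1.toLinearMap) fun x y => by
        simp only [LinearMap.comp_apply, Derivation.coeFn_coe, D1.leibniz, smul_eq_mul, map_add]
        linear_combination (D1 x * D1 y) * (CharTwo.two_eq_zero (R := κ))
      have hE := hβ E
      simp [E, hD1, hβ D1] at hE
      have h01 := hβ ⁅D0, D1⁆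
      rw [Derivation.commutator_apply, Derivation.commutator_apply, hβ, hβ, D0.leibniz, D1.leibniz] at h01
      simp [hD0, hD1, hE] at h01
    obtain ⟨u, hu⟩ := hαsq
    have hv : ∃ v : κ, v ^ 2 = β := by
      by_contra hne
      push Not at hne
      obtain ⟨D, hD⟩ := exists_derivation_eq_one β hne
      rw [hβ, ← hu, D.leibniz_pow, two_smul, CharTwo.add_self_eq_zero, mul_zero] at hD
      exact zero_ne_one hD
    obtain ⟨v, hv⟩ := hv
    have h20 : (2 : (Pl κ)) = 0 := by
      rw [← map_ofNat (C : κ →+* (Pl κ)) 2, (show (2 : κ) = 0 from CharTwo.two_eq_zero), map_zero]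
    have hCu : C u ^ 2 = (C α : (Pl κ)) := by rw [← map_pow, hu]
    have hCv : C v ^ 2 = (C a + C d * C α : (Pl κ)) := by rw [← map_pow, hv, hβdef, map_add, map_mul]
    have hxl : (X 0 + C u : (Pl κ)) ^ 2 ∈ I := by
      convert hl using 1
      linear_combination (X 0 * C u) * h20 + hCu
    have hym : (X 1 + C v : (Pl κ)) ^ 2 ∈ I := by
      convert sub_mem (Ideal.pow_le_self two_ne_zero hq) (I.mul_mem_left (C d) hl) using 1
      linear_combination (X 1 * C v + C d * C α) * h20 + hCv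
    obtain ⟨w, hw⟩ := isSquare_of_point I hI d u v hxl hym (by
      convert hq using 1
      linear_combination (C d * X 0 * C u + X 1 * C v + C d * C α) * h20 + C d * hCu + hCv)
    exact hd w hw
  · push Not at hd
    obtain ⟨w, hw⟩ := hd
    refine ⟨?_, w, hw⟩
    by_contra hne
    push Not at hne
    obtain ⟨D, hD⟩ := exists_derivation_eq_one a hne
    have := hder D
    rw [← hw, D.leibniz_pow, two_smul, CharTwo.add_self_eq_zero, map_zero, zero_mul, add_zero, hD,
      map_one, ← map_one (C : κ →+* (Pl κ)), C_mem_iff I hI] at this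
    exact one_ne_zero this

end GrothLib.QuadSq
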